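import Groth.Agent.AlgSpDec.MinimalNonScheme
import Groth.Agent.AlgSpDec.LimAffineBase
import Groth.Agent.AlgSpPts.Misc

/-!
# Ideals of the base cutting out a non scheme
-/

set_option autoImplicit false
set_option backward.isDefEq.respectTransparency false
set_option backward.isDefEq.respectTransparency.types false

universe u

open CategoryTheory Limits Opposite AlgebraicGeometry AlgSp Groth.Agent.AlgSpLib Groth.Agent.AlgSpPts Groth.Agent.AlgSpDec

namespace Groth.Agent.NonSch13

variable {A : CommRingCat.{u}}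

/-- The closed subscheme of `Spec A` cut out by an ideal, as an object over `Spec A`. -/
noncomputable abbrev cl (I : Ideal A) : Over (Spec A) := Over.mk (Spec.map (CommRingCat.ofHom (Ideal.Quotient.mk I)))

/-- The map to the base. -/
noncomputable abbrev cι (I : Ideal A) : cl I ⟶ Over.mk (𝟙 (Spec A)) :=
  Over.homMk (Spec.map (CommRingCat.ofHom (Ideal.Quotient.mk I)))

/-- The ring map given by a scheme over `Spec A`. -/
noncomputable abbrev strMap (T : Over (Spec A)) : A ⟶ Γ(T.left, ⊤) :=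
  (Scheme.ΓSpecIso A).inv ≫ T.hom.appTop

theorem mem_ker_of_hom {T : Over (Spec A)} {I : Ideal A} (g : T ⟶ cl I) :
    ∀ a ∈ I, (strMap T).hom a = 0 := by
  intro a ha
  let m : A ⟶ CommRingCat.of (A ⧸ I) := CommRingCat.ofHom (Ideal.Quotient.mk I)
  have h : strMap T = m ≫ (Scheme.ΓSpecIso _).inv ≫ g.left.appTop := by
    rw [Scheme.ΓSpecIso_inv_naturality_assoc m, ← Scheme.Hom.comp_appTop]
    exact congrArg (fun f : T.left ⟶ Spec A => (Scheme.ΓSpecIso A).inv ≫ f.appTop) (Over.w g).symm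
  rw [h]
  show ((Scheme.ΓSpecIso (CommRingCat.of (A ⧸ I))).inv ≫ g.left.appTop).hom (Ideal.Quotient.mk I a) = 0
  rw [Ideal.Quotient.eq_zero_iff_mem.2 ha, map_zero]

theorem nonempty_hom_of_mem_ker {T : Over (Spec A)} {I : Ideal A}
    (h : ∀ a ∈ I, (strMap T).hom a = 0) : Nonempty (T ⟶ cl I) := by
  refine ⟨Over.homMk (T.left.toSpecΓ ≫ Spec.map (CommRingCat.ofHom (Ideal.Quotient.lift I (strMap T).hom h))) ?_⟩
  show (T.left.toSpecΓ ≫ Spec.map _) ≫ Spec.map _ = T.hom
  rw [Category.assoc, ← Spec.map_comp]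
  have : CommRingCat.ofHom (Ideal.Quotient.mk I) ≫ CommRingCat.ofHom (Ideal.Quotient.lift I (strMap T).hom h) = strMap T := by
    ext a
    rfl
  rw [this, strMap, Spec.map_comp, ← Category.assoc, ← Scheme.toSpecΓ_naturality, Category.assoc,
    toSpecΓ_SpecMap_ΓSpecIso_inv, Category.comp_id]

theorem mono_cι (I : Ideal A) : Mono (cι I) := by
  haveI : IsClosedImmersion (Spec.map (CommRingCat.ofHom (Ideal.Quotient.mk I))) :=
    IsClosedImmersion.spec_of_surjective _ Ideal.Quotient.mk_surjective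
  exact (Over.forget (Spec A)).mono_of_mono_map (inferInstanceAs (Mono (Spec.map (CommRingCat.ofHom (Ideal.Quotient.mk I)))))

theorem repWith_cι (I : Ideal A) : RepWith @IsClosedImmersion ((yon (Spec A)).map (cι I)) :=
  (repWith_yon_map_iff _ _).2 (IsClosedImmersion.spec_of_surjective _ Ideal.Quotient.mk_surjective)

/-- A map factoring through all members of a family of ideals factors through their supremum. -/
theorem exists_factor_iSup {ι : Type*} (I : ι → Ideal A) {F : Sp (Spec A)}
    (g : F ⟶ (yon (Spec A)).obj (Over.mk (𝟙 (Spec A))))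
    (h : ∀ i, ∃ l : F ⟶ (yon (Spec A)).obj (cl (I i)), l ≫ (yon (Spec A)).map (cι (I i)) = g) :
    ∃ l : F ⟶ (yon (Spec A)).obj (cl (⨆ i, I i)), l ≫ (yon (Spec A)).map (cι (⨆ i, I i)) = g := by
  have hT : ∀ (T : (Over (Spec A))ᵒᵖ) (x : F.obj.obj T), Nonempty (T.unop ⟶ cl (⨆ i, I i)) := by
    intro T x
    refine nonempty_hom_of_mem_ker fun a ha => ?_
    have hle : (⨆ i, I i) ≤ RingHom.ker (strMap T.unop).hom := iSup_le fun i b hb => by
      obtain ⟨l, -⟩ := h i
      exact mem_ker_of_hom ((l.hom.app T x).down : T.unop ⟶ cl (I i)) b hb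
    exact hle ha
  haveI := mono_cι (⨆ i, I i)
  have hsub : ∀ (T : Over (Spec A)) (a b : T ⟶ cl (⨆ i, I i)), a = b := fun T a b =>
    (cancel_mono (cι _)).1 (Over.mkIdTerminal.hom_ext _ _)
  refine ⟨⟨{ app := fun T => TypeCat.ofHom fun x => ULift.up (Classical.choice (hT T x)), naturality := ?_ }⟩, ?_⟩
  · intro T T' f
    ext x
    exact congrArg ULift.up (hsub _ _ _)
  · exact (isTerminalYon (Spec A)).hom_ext _ _

/-- An inclusion of ideals gives a map of closed subschemes. -/
theorem exists_hom_of_le {I J : Ideal A} (h : I ≤ J) : Nonempty (cl J ⟶ cl I) :=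
  nonempty_hom_of_mem_ker fun a ha => mem_ker_of_hom (𝟙 (cl J)) a (h ha)

theorem cι_eq {I J : Ideal A} (f : cl J ⟶ cl I) : f ≫ cι I = cι J :=
  Over.mkIdTerminal.hom_ext _ _

/-- There is a maximal ideal among those cutting out non representable spaces. -/
theorem exists_maximal {X : Sp (Spec A)} (hX : IsAlgSpace X)
    (q : X ⟶ (yon (Spec A)).obj (Over.mk (𝟙 (Spec A)))) (hqc : IsQuasiCompactMor q)
    (hqs : IsQuasiSeparatedMor q) (hns : ¬ X.obj.IsRepresentable) :
    ∃ I : Ideal A, ¬ (pullback q ((yon (Spec A)).map (cι I))).obj.IsRepresentable ∧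
      ∀ J, I < J → (pullback q ((yon (Spec A)).map (cι J))).obj.IsRepresentable := by
  let P : Set (Ideal A) := {I | ¬ (pullback q ((yon (Spec A)).map (cι I))).obj.IsRepresentable}
  have hXqc : IsQuasiCompactSp X := isQuasiCompactSp_of_mor (IsAlgSpace.yon_obj _) hqc (by
    haveI : CompactSpace (Spec A) := inferInstance
    exact (isQuasiCompactSp_yon_iff _).2 ‹_›)
  have hXqs : IsQuasiSeparatedSp X := by
    rw [isQuasiSeparatedSp_iff_mor, (isTerminalYon _).hom_ext ((isTerminalYon _).from X) q]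
    exact hqs
  have hrep : ∀ I : Ideal A, RepWith @IsClosedImmersion (pullback.fst q ((yon (Spec A)).map (cι I))) := fun I =>
    repWith_of_isPullback (IsPullback.of_hasPullback _ _).flip (repWith_cι I)
  have haff : ∀ {F : Sp (Spec A)} {f : F ⟶ X}, RepWith @IsClosedImmersion f → RepWith @IsAffineHom f := fun h =>
    repWith_mono (fun _ _ e (_ : IsClosedImmersion e) => inferInstanceAs (IsAffineHom e)) _ h
  have hbot : ⊥ ∈ P := by
    intro hr
    haveI : IsIso (CommRingCat.ofHom (Ideal.Quotient.mk (⊥ : Ideal A))) := by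
      rw [ConcreteCategory.isIso_iff_bijective]
      exact ⟨fun a b h => by simpa [Ideal.Quotient.eq, sub_eq_zero] using h, Ideal.Quotient.mk_surjective⟩
    haveI : IsIso ((Over.forget (Spec A)).map (cι (⊥ : Ideal A))) :=
      inferInstanceAs (IsIso (Spec.map (CommRingCat.ofHom (Ideal.Quotient.mk (⊥ : Ideal A)))))
    haveI : IsIso (cι (⊥ : Ideal A)) := isIso_of_reflects_iso _ (Over.forget (Spec A))
    haveI : ((sheafToPresheaf _ _).obj (pullback q ((yon (Spec A)).map (cι (⊥ : Ideal A))))).IsRepresentable := hr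
    exact hns (isRepresentable_of_natIso _ ((sheafToPresheaf _ _).mapIso (asIso (pullback.fst q ((yon (Spec A)).map (cι (⊥ : Ideal A)))))))
  obtain ⟨M, -, hM⟩ := zorn_le_nonempty₀ P (fun C hC hch J₀ hJ₀ => by
    refine ⟨⨆ J : C, (J : Ideal A), fun hr => ?_, fun J hJ => le_iSup_of_le ⟨J, hJ⟩ le_rfl⟩
    haveI : IsDirectedOrder C := ⟨fun x y => (hch.total x.2 y.2).elim (fun h => ⟨y, h, le_rfl⟩) fun h => ⟨x, le_rfl, h⟩⟩
    haveI : Nonempty C := ⟨⟨J₀, hJ₀⟩⟩
    let f : ∀ j : (↥C)ᵒᵖ, pullback q ((yon (Spec A)).map (cι (j.unop : Ideal A))) ⟶ X := fun j => pullback.fst _ _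
    have hf : ∀ j, Mono (f j) := fun j => mono_of_closedImmersion (hrep _)
    have hm : ∀ {i j : (↥C)ᵒᵖ} (_ : i ⟶ j), ∃ m, m ≫ f j = f i := fun {i j} φ => by
      obtain ⟨g⟩ := exists_hom_of_le (show (j.unop : Ideal A) ≤ (i.unop : Ideal A) from leOfHom φ.unop)
      exact ⟨pullback.lift (f i) (pullback.snd _ _ ≫ (yon (Spec A)).map g)
        ((isTerminalYon _).hom_ext _ _), pullback.lift_fst _ _ _⟩
    choose m hm using @hm
    let D : (↥C)ᵒᵖ ⥤ Sp (Spec A) :=
      { obj := fun j => pullback q ((yon (Spec A)).map (cι (j.unop : Ideal A)))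
        map := fun φ => m φ
        map_id := fun j => (cancel_mono (f j)).1 (by rw [hm, Category.id_comp])
        map_comp := fun {i j k} φ φ' => (cancel_mono (f k)).1 (by rw [hm, Category.assoc, hm, hm]) }
    haveI : IsConnected (↥C)ᵒᵖ := IsCofiltered.isConnected _
    let L := pullback q ((yon (Spec A)).map (cι (⨆ J : C, (J : Ideal A))))
    have hπ : ∀ j, ∃ l : L ⟶ D.obj j, l ≫ f j = pullback.fst _ _ := fun j => by
      obtain ⟨g⟩ := exists_hom_of_le (le_iSup (fun J : C => (J : Ideal A)) j.unop)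
      exact ⟨pullback.lift (pullback.fst _ _) (pullback.snd _ _ ≫ (yon (Spec A)).map g)
        ((isTerminalYon _).hom_ext _ _), pullback.lift_fst _ _ _⟩
    choose π hπ using hπ
    let c : Cone D :=
      { pt := L
        π :=
          { app := π
            naturality := fun i j φ => (cancel_mono (f j)).1 (by
              simp only [Functor.const_obj_map, Category.id_comp, Category.assoc]
              rw [hπ, show D.map φ ≫ f j = f i from hm φ, hπ]
              exact Category.id_comp _) } }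
    haveI := mono_of_closedImmersion (hrep (⨆ J : C, (J : Ideal A)))
    have hlift : ∀ s : Cone D, ∃ l : s.pt ⟶ L, ∀ j, l ≫ π j = s.π.app j := fun s => by
      let j₀ : (↥C)ᵒᵖ := op ⟨J₀, hJ₀⟩
      let τ₀ : D ⟶ (Functor.const (↥C)ᵒᵖ).obj X :=
        { app := f, naturality := fun i j φ => (hm φ).trans (Category.comp_id _).symm }
      have hall : ∀ j, s.π.app j₀ ≫ f j₀ = s.π.app j ≫ f j := fun j => const_proj_eq τ₀ s j₀ j
      obtain ⟨l, hl⟩ := exists_factor_iSup (fun J : C => (J : Ideal A)) ((s.π.app j₀ ≫ f j₀) ≫ q) (fun J =>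
        ⟨s.π.app (op J) ≫ pullback.snd _ _, (isTerminalYon _).hom_ext _ _⟩)
      refine ⟨pullback.lift (s.π.app j₀ ≫ f j₀) l hl.symm, fun j => (cancel_mono (f j)).1 ?_⟩
      rw [Category.assoc, hπ, pullback.lift_fst, hall j]
    choose lift hfac using hlift
    have hc : IsLimit c := IsLimit.mk lift hfac fun s l hl => by
      refine (cancel_mono (pullback.fst q ((yon (Spec A)).map (cι (⨆ J : C, (J : Ideal A)))))).1 ?_
      show l ≫ pullback.fst _ _ = lift s ≫ pullback.fst _ _
      rw [← hπ (op ⟨J₀, hJ₀⟩), ← Category.assoc, ← Category.assoc, hfac]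
      exact congrArg (· ≫ _) (hl _)
    obtain ⟨T, ⟨r⟩⟩ := hr.has_representation
    obtain ⟨j, hj⟩ := exists_isRepresentable_stage D
      (fun j => AlgSpLib.isAlgSpace_of_representable (f j) (hrep _).rep hX)
      (fun i j φ => isAffineMor_cancel_mono _ (f j) (by
        rw [show D.map φ ≫ f j = f i from hm φ]
        exact isAffineMor_of_repWith le_rfl (haff (hrep _))))
      (fun j => isQuasiCompactSp_of_affine hX _ (haff (hrep _)) hXqc)
      (fun j => isQuasiSeparatedSp_of_affine _ (haff (hrep _)) hXqs) c hc (AlgSp.isoOfRepresentableBy r)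
    exact hC j.unop.2 hj) ⊥ hbot
  exact ⟨M, hM.prop, fun J hJ => not_not.1 fun h => hJ.not_ge (hM.le_of_ge h hJ.le)⟩

end Groth.Agent.NonSch13
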