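import Groth.Agent.NonSch13.Restrict

/-!
# Representability is local on the base, checked at local rings
-/

set_option autoImplicit false
set_option backward.isDefEq.respectTransparency false
set_option backward.isDefEq.respectTransparency.types false

universe u

open CategoryTheory Limits Opposite AlgebraicGeometry AlgSp Groth.Agent.AlgSpLib Groth.Agent.AlgSpPts Groth.Agent.AlgSpDec Groth.Agent.AlgSpBase Groth.Agent.Pi1Ext

namespace Groth.Agent.NonSch13

variable {S : Scheme.{u}} (s : S)

/-- Affine neighbourhoods inside a fixed one, as objects over `S`. -/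
noncomputable def nbhds (w₀ : SpreadLim.Nbhd S s) : Over w₀ ⥤ Over S where
  obj o := Over.mk (SpreadLim.toX S s o.left)
  map φ := Over.homMk ((SpreadLim.specs S s).map φ.left) (SpreadLim.map_toX S s φ.left)
  map_id o := Over.OverMorphism.ext ((SpreadLim.specs S s).map_id o.left)
  map_comp φ ψ := Over.OverMorphism.ext ((SpreadLim.specs S s).map_comp φ.left ψ.left)

/-- The cone of the local scheme. -/
noncomputable def nbhdsCone (w₀ : SpreadLim.Nbhd S s) : Cone (nbhds s w₀) where
  pt := Over.mk (S.fromSpecStalk s)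
  π :=
    { app := fun o => Over.homMk ((SpreadLim.cone S s).π.app o.left) (SpreadLim.π_toX S s o.left)
      naturality := fun o o' φ => Over.OverMorphism.ext ((SpreadLim.cone S s).π.naturality φ.left) }

/-- The local scheme is the limit of the neighbourhoods inside a fixed one. -/
theorem isLimit_nbhdsCone (w₀ : SpreadLim.Nbhd S s) : Nonempty (IsLimit (nbhdsCone s w₀)) := by
  haveI := IsCofiltered.isConnected (Over w₀)
  let h := (Functor.Initial.isLimitWhiskerEquiv (CategoryTheory.Over.forget w₀) (SpreadLim.cone S s)).symm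
    (SpreadLim.isLimit S s)
  exact ⟨isLimitOfReflects (Over.forget S) h⟩

variable {X : Sp S} (q : X ⟶ (yon S).obj (Over.mk (𝟙 S)))

/-- If the base change to a local ring is representable, so is the base change to a neighbourhood. -/
theorem exists_nbhd_isRepresentable (hX : IsAlgSpace X) (hqc : IsQuasiCompactMor q)
    (hqs : IsQuasiSeparatedMor q)
    (hs : (pullback q ((yon S).map (toBase (Over.mk (S.fromSpecStalk s))))).obj.IsRepresentable) :
    ∃ W : SpreadLim.Nbhd S s,
      (pullback q ((yon S).map (toBase (Over.mk (SpreadLim.toX S s W))))).obj.IsRepresentable := by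
  obtain ⟨w₀⟩ : Nonempty (SpreadLim.Nbhd S s) := inferInstance
  let g := SpreadLim.toX S s w₀
  haveI : IsAffine ((SpreadLim.specs S s).obj w₀) := inferInstanceAs (IsAffine (Spec Γ(S, w₀.1)))
  haveI := IsCofiltered.isConnected (Over w₀)
  let E := nbhds s w₀
  obtain ⟨hE⟩ := isLimit_nbhdsCone s w₀
  let hY := isLimitOfPreserves (yon S) hE
  have hter : ∀ {F : Sp S} (a b : F ⟶ (yon S).obj (Over.mk (𝟙 S))), a = b := fun a b =>
    (AlgSpPts.isTerminalYon S).hom_ext a b
  let D : Over w₀ ⥤ Sp S :=
    { obj := fun o => pullback q ((yon S).map (toBase (E.obj o)))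
      map := fun φ => pullback.lift (pullback.fst _ _) (pullback.snd _ _ ≫ (yon S).map (E.map φ)) (hter _ _)
      map_id := fun o => pullback.hom_ext (by simp) (by simp)
      map_comp := fun φ ψ => pullback.hom_ext (by simp) (by simp) }
  let c : Cone D :=
    { pt := pullback q ((yon S).map (toBase (Over.mk (S.fromSpecStalk s))))
      π :=
        { app := fun o => pullback.lift (pullback.fst _ _)
            (pullback.snd _ _ ≫ (yon S).map ((nbhdsCone s w₀).π.app o)) (hter _ _)
          naturality := fun o o' φ => pullback.hom_ext (by simp [D]) (by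
            simp only [D, Functor.const_obj_map, Category.id_comp, Category.assoc, pullback.lift_snd]
            rw [pullback.lift_snd_assoc, Category.assoc, ← Functor.map_comp, ← (nbhdsCone s w₀).w φ]
            exact Category.id_comp _) } }
  let c₂ : Cone D → Cone (E ⋙ yon S) := fun t =>
    { pt := t.pt
      π :=
        { app := fun o => t.π.app o ≫ pullback.snd _ _
          naturality := fun o o' φ => by
            dsimp
            rw [Category.id_comp, ← t.w φ]
            simp [D] } }
  let top : Over w₀ := Over.mk (𝟙 w₀)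
  have hfst : ∀ (t : Cone D) (o o' : Over w₀),
      t.π.app o ≫ pullback.fst _ _ = t.π.app o' ≫ pullback.fst _ _ := fun t o o' => by
    obtain ⟨l, u, v, -⟩ := IsCofilteredOrEmpty.cone_objs o o'
    rw [← t.w u, ← t.w v]
    simp [D]
  let hc : IsLimit c :=
    { lift := fun t => pullback.lift (t.π.app top ≫ pullback.fst _ _) (hY.lift (c₂ t)) (hter _ _)
      fac := fun t o => pullback.hom_ext (by simp [c, hfst t o top]) (by
        simp only [c, Category.assoc, pullback.lift_snd]
        rw [pullback.lift_snd_assoc]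
        exact hY.fac (c₂ t) o)
      uniq := fun t l hl => pullback.hom_ext (by simp [← hl top, c]) (hY.hom_ext fun o => by
        rw [pullback.lift_snd]
        refine Eq.trans ?_ (hY.fac (c₂ t) o).symm
        show (l ≫ pullback.snd _ _) ≫ (yon S).map ((nbhdsCone s w₀).π.app o) = t.π.app o ≫ pullback.snd _ _
        rw [← hl o]
        simp [c]) }
  haveI : PreservesLimitsOfSize.{u, u} (jinv g) := (jadj g).rightAdjoint_preservesLimits
  have haff : ∀ (o o' : Over w₀) (φ : o ⟶ o'), RepWith @IsAffineHom (D.map φ) := fun o o' φ => by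
    have h1 : IsPullback (D.map φ) (pullback.snd q ((yon S).map (toBase (E.obj o))))
        (pullback.snd q ((yon S).map (toBase (E.obj o')))) ((yon S).map (E.map φ)) := by
      refine IsPullback.of_right ?_ (pullback.lift_snd _ _ _) (IsPullback.of_hasPullback q _)
      rw [pullback.lift_fst, ← Functor.map_comp]
      have : E.map φ ≫ toBase (E.obj o') = toBase (E.obj o) := Over.mkIdTerminal.hom_ext _ _
      rw [this]
      exact IsPullback.of_hasPullback q _
    refine repWith_of_isPullback h1.flip ((repWith_yon_map_iff _ _).2 ?_)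
    exact inferInstanceAs (IsAffineHom ((SpreadLim.specs S s).map φ.left))
  haveI : IsIso ((jinv g).map (pullback.fst q ((yon S).map (toBase (E.obj top))))) := isIso_jinv_fst g q
  let D' := D ⋙ jinv g
  have hD' : ∀ o, IsAlgSpace (D'.obj o) := fun o => isAlgSpace_jinv g
    (isAlgSpace_of_isPullback (IsPullback.of_hasPullback q ((yon S).map (toBase (E.obj o))))
      hX (IsAlgSpace.yon_obj _) (IsAlgSpace.yon_obj _))
  have hX' : IsAlgSpace ((jinv g).obj X) := isAlgSpace_jinv g hX
  have htop : ∀ o : Over w₀, RepWith @IsAffineHom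
      ((jinv g).map (D.map (Over.homMk o.hom : o ⟶ top)) ≫ (jinv g).map (pullback.fst q ((yon S).map (toBase (E.obj top))))) :=
    fun o => repWith_comp (repWith_jinv g (haff _ _ _)) (repWith_of_isIso _ _)
  have hXqc : IsQuasiCompactSp ((jinv g).obj X) := isQuasiCompactSp_jinv g q hqc
  have hXqs : IsQuasiSeparatedSp ((jinv g).obj X) := isQuasiSeparatedSp_jinv g (by
    rw [isQuasiSeparatedSp_iff_mor, hter ((AlgSpPts.isTerminalYon S).from X) q]
    exact hqs)
  obtain ⟨T, ⟨r⟩⟩ := hs.has_representation
  obtain ⟨o, ho⟩ := exists_isRepresentable_stage D' hD'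
    (fun o o' φ => isAffineMor_of_repWith le_rfl (repWith_jinv g (haff _ _ φ)))
    (fun o => isQuasiCompactSp_of_affine hX' _ (htop o) hXqc)
    (fun o => isQuasiSeparatedSp_of_affine _ (htop o) hXqs)
    ((jinv g).mapCone c) (isLimitOfPreserves (jinv g) hc)
    (jinvYonIso g T ≪≫ (jinv g).mapIso (AlgSp.isoOfRepresentableBy r))
  exact ⟨o.left, isRepresentable_of_jinv g
    (pullback.snd q ((yon S).map (toBase (E.obj o))) ≫ (yon S).map (E.map (Over.homMk o.hom : o ⟶ top))) ho⟩

/-- Points of a base change to an open. -/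
theorem exists_preimage_point (T : Over S) (w : T.left) (x : Points X)
    (h : Points.map q x = Points.ofScheme (Over.mk (𝟙 S)) (T.hom w)) :
    ∃ z : Points (pullback q ((yon S).map (toBase T))), Points.map (pullback.fst q ((yon S).map (toBase T))) z = x := by
  obtain ⟨z, hz, -⟩ := exists_point_of_isPullback (IsPullback.of_hasPullback q ((yon S).map (toBase T)))
    (x := x) (y := Points.ofScheme T w) (h.trans (Points.map_yon_map_apply (toBase T) w).symm)
  exact ⟨z, hz⟩

/-- A space which is a scheme over each local ring of the base is a scheme. -/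
theorem isRepresentable_of_local (hX : IsAlgSpace X) (hqc : IsQuasiCompactMor q)
    (hqs : IsQuasiSeparatedMor q)
    (h : ∀ x : Points X, ∃ s : S, Points.map q x = Points.ofScheme (Over.mk (𝟙 S)) s ∧
      (pullback q ((yon S).map (toBase (Over.mk (S.fromSpecStalk s))))).obj.IsRepresentable) :
    X.obj.IsRepresentable := by
  let ι := {s : S // (pullback q ((yon S).map (toBase (Over.mk (S.fromSpecStalk s))))).obj.IsRepresentable}
  have hW : ∀ i : ι, ∃ (W : SpreadLim.Nbhd S i.1) (T : Over S),
      Nonempty ((yon S).obj T ≅ pullback q ((yon S).map (toBase (Over.mk (SpreadLim.toX S i.1 W))))) := fun i => by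
    obtain ⟨W, hW⟩ := exists_nbhd_isRepresentable i.1 q hX hqc hqs i.2
    obtain ⟨T, ⟨r⟩⟩ := hW.has_representation
    exact ⟨W, T, ⟨AlgSp.isoOfRepresentableBy r⟩⟩
  choose W T e using hW
  let j : ∀ i, (yon S).obj (T i) ⟶ X := fun i => (e i).some.hom ≫ pullback.fst _ _
  have hj : ∀ i, RepWith @IsOpenImmersion (j i) := fun i =>
    repWith_comp (repWith_of_isIso _ _) (repWith_of_isPullback (IsPullback.of_hasPullback _ _).flip
      ((repWith_yon_map_iff _ _).2 (inferInstanceAs (IsOpenImmersion (SpreadLim.toX S i.1 (W i))))))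
  obtain ⟨Q, ⟨eQ⟩, -⟩ := exists_iso_of_open_cover T j hj (fun x => by
    obtain ⟨s, hs, hr⟩ := h x
    obtain ⟨w, hw⟩ : s ∈ Set.range (SpreadLim.toX S s (W ⟨s, hr⟩)).base := by
      rw [SpreadLim.range_toX]
      exact (W ⟨s, hr⟩).2.2
    obtain ⟨z, hz⟩ := exists_preimage_point q (Over.mk (SpreadLim.toX S s (W ⟨s, hr⟩))) w x
      (hs.trans (congrArg (fun t : S => Points.ofScheme (Over.mk (𝟙 S)) t) hw.symm))
    obtain ⟨v, hv⟩ := surjective_ofPt (repWith_of_isIso @Surjective (e ⟨s, hr⟩).some.hom) z
    refine ⟨⟨s, hr⟩, v, ?_⟩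
    rw [← hz, ← hv, Points.map_ofPt])
  exact isRepresentable_of_iso eQ

end Groth.Agent.NonSch13
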