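import Groth.Agent.NonSch13.Basic
import Groth.Agent.AlgSpBase.JShriekProps
import Groth.Agent.AlgSpBase.JInv
import Groth.Agent.Pi1Ext.SpreadLim

/-!
# Restriction of algebraic spaces to an open of the base
-/

set_option autoImplicit false
set_option backward.isDefEq.respectTransparency false
set_option backward.isDefEq.respectTransparency.types false

universe u

open CategoryTheory Limits Opposite AlgebraicGeometry AlgSp Groth.Agent.AlgSpLib Groth.Agent.AlgSpPts Groth.Agent.AlgSpDec Groth.Agent.AlgSpBase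

namespace Groth.Agent.NonSch13

variable {S W : Scheme.{u}} (g : W ⟶ S) [Mono g]

/-- The map to the base. -/
noncomputable abbrev toBase (T : Over S) : T ⟶ Over.mk (𝟙 S) := Over.homMk T.hom

theorem isIso_jinv_toBase : IsIso ((jinv g).map ((yon S).map (toBase (Over.mk g)))) := by
  have h1 : ∀ X' : Over S, IsIso (pullback.snd X'.hom g) →
      Nonempty (IsTerminal ((jinv g).obj ((yon S).obj X'))) := fun X' h => by
    haveI := h
    let e : Over.mk (pullback.snd X'.hom g) ≅ Over.mk (𝟙 W) := Over.isoMk (asIso (pullback.snd X'.hom g)) (by simp)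
    exact ⟨IsTerminal.ofIso (AlgSpPts.isTerminalYon W) (((yon W).mapIso e).symm ≪≫ jinvYonIso g X')⟩
  obtain ⟨t₁⟩ := h1 (Over.mk g) (inferInstanceAs (IsIso (pullback.snd g g)))
  obtain ⟨t₂⟩ := h1 (Over.mk (𝟙 S)) (inferInstanceAs (IsIso (pullback.snd (𝟙 S) g)))
  exact ⟨t₁.from _, t₁.hom_ext _ _, t₂.hom_ext _ _⟩

theorem isIso_jinv_fst {X : Sp S} (q : X ⟶ (yon S).obj (Over.mk (𝟙 S))) :
    IsIso ((jinv g).map (pullback.fst q ((yon S).map (toBase (Over.mk g))))) := by
  haveI := isIso_jinv_toBase g
  exact (jinv_map_isPullback g (IsPullback.of_hasPullback q ((yon S).map (toBase (Over.mk g))))).isIso_fst_of_isIso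

omit [Mono g] in
theorem isQuasiSeparatedSp_jinv {F : Sp S} (h : IsQuasiSeparatedSp F) :
    IsQuasiSeparatedSp ((jinv g).obj F) := by
  haveI : PreservesLimitsOfSize.{0, 0} (jinv g) := (jadj g).rightAdjoint_preservesLimits
  let e := PreservesLimitPair.iso (jinv g) F F
  have : Limits.diag ((jinv g).obj F) = (jinv g).map (Limits.diag F) ≫ e.hom := by
    rw [PreservesLimitPair.iso_hom]
    ext <;> simp [← Functor.map_comp]
  show RepWith @QuasiCompact _
  rw [this]
  exact repWith_comp (repWith_jinv g h) (repWith_of_isIso _ _)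

/-- Restriction preserves quasi-compactness of a morphism to the base. -/
theorem isQuasiCompactSp_jinv [CompactSpace W] {X : Sp S} (q : X ⟶ (yon S).obj (Over.mk (𝟙 S)))
    (hqc : IsQuasiCompactMor q) : IsQuasiCompactSp ((jinv g).obj X) := by
  obtain ⟨U, p, hpe, hps, hU⟩ := hqc (IsAlgSpace.yon_obj (Over.mk g))
    ((isQuasiCompactSp_yon_iff _).2 ‹CompactSpace W›) _ _ _
    (IsPullback.of_hasPullback q ((yon S).map (toBase (Over.mk g))))
  haveI := isIso_jinv_fst g q
  refine ⟨Over.mk (pullback.snd U.hom g), (jinvYonIso g U).hom ≫ (jinv g).map p ≫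
    (jinv g).map (pullback.fst q ((yon S).map (toBase (Over.mk g)))), ?_, ?_, ?_⟩
  · exact repWith_comp (repWith_of_isIso _ _) (repWith_comp (repWith_jinv g hpe) (repWith_of_isIso _ _))
  · exact repWith_comp (repWith_of_isIso _ _) (repWith_comp (repWith_jinv g hps) (repWith_of_isIso _ _))
  · obtain ⟨u, hu⟩ := (yon S).map_surjective (p ≫ pullback.snd q ((yon S).map (toBase (Over.mk g))))
    let l : U.left ⟶ pullback U.hom g := pullback.lift (𝟙 _) u.left (by
      rw [Category.id_comp]
      exact (Over.w u).symm)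
    haveI : IsIso l := ⟨pullback.fst U.hom g, pullback.lift_fst _ _ _, by
      rw [← cancel_mono (pullback.fst U.hom g), Category.assoc, pullback.lift_fst, Category.comp_id, Category.id_comp]⟩
    haveI : CompactSpace U.left := hU
    exact Function.Surjective.compactSpace (f := l) l.continuous l.surjective

/-- A space lying over the open is representable if its restriction is. -/
theorem isRepresentable_of_jinv {F : Sp S} (u : F ⟶ (yon S).obj (Over.mk g))
    (h : ((jinv g).obj F).obj.IsRepresentable) : F.obj.IsRepresentable := by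
  obtain ⟨T, ⟨r⟩⟩ := h.has_representation
  haveI : Mono (Over.homMk g : Over.mk g ⟶ Over.mk (𝟙 S)) :=
    (Over.forget S).mono_of_mono_map (inferInstanceAs (Mono g))
  let e : F ≅ (yon S).obj (Over.mk g) ⨯ F :=
    { hom := prod.lift u (𝟙 F)
      inv := prod.snd
      inv_hom_id := by
        refine prod.hom_ext ((cancel_mono ((yon S).map (Over.homMk g : Over.mk g ⟶ Over.mk (𝟙 S)))).1
          ((AlgSpPts.isTerminalYon S).hom_ext _ _)) ?_
        simp }
  exact isRepresentable_of_iso (jshYonIso g T ≪≫ (jsh g).mapIso (AlgSp.isoOfRepresentableBy r) ≪≫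
    jshJinvIso g F ≪≫ e.symm)

end Groth.Agent.NonSch13
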